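import Groth.Agent.DvrDom.KrullAkizuki

/-!
# The Krull–Akizuki length bound for submodules of `K ^ r`
-/

set_option autoImplicit false

universe u v

namespace Groth.Agent.KAModule

open nonZeroDivisors
open scoped Pointwise

variable {C : Type u} [CommRing C] [IsDomain C] [IsNoetherianRing C] [Ring.KrullDimLE 1 C]
variable {K : Type v} [Field K] [Algebra C K] [IsFractionRing C K]

theorem length_map_mkQ_le (L : Submodule C K) {a : C} (ha : a ≠ 0) (N : Submodule C L) (hN : N.FG) :
    Module.length C (N.map (Ideal.span ({a} : Set C) • (⊤ : Submodule C L)).mkQ) ≤ Ring.ord C a := by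
  classical
  obtain ⟨s, hs⟩ := hN
  obtain ⟨c, hc⟩ := IsLocalization.exist_integer_multiples_of_finset C⁰ (s.image fun d : L ↦ (d : K))
  have hint : ∀ z ∈ N, ∃ j : C, algebraMap C K j = (c : C) • (z : K) := by
    intro z hz
    rw [← hs] at hz
    induction hz using Submodule.span_induction with
    | mem y hy =>
      obtain ⟨j, hj⟩ := hc (y : K) (Finset.mem_image_of_mem _ hy)
      exact ⟨j, hj⟩
    | zero => exact ⟨0, by simp⟩
    | add y z _ _ hy hz =>
      obtain ⟨j, hj⟩ := hy
      obtain ⟨k, hk⟩ := hz
      exact ⟨j + k, by simp [hj, hk, smul_add]⟩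
    | smul r y _ hy =>
      obtain ⟨j, hj⟩ := hy
      exact ⟨r * j, by rw [map_mul, hj, Submodule.coe_smul, smul_comm, ← Algebra.smul_def]⟩
  choose g hg using hint
  have hinj : Function.Injective (algebraMap C K) := IsFractionRing.injective C K
  let gl : N →ₗ[C] C :=
    { toFun := fun z ↦ g z.1 z.2
      map_add' := fun z w ↦ hinj (by simp [hg, smul_add])
      map_smul' := fun r z ↦ hinj (by
        simp only [hg, RingHom.id_apply, smul_eq_mul, map_mul, Submodule.coe_smul]
        rw [smul_comm, ← Algebra.smul_def]) }
  have hglinj : Function.Injective gl := by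
    intro z w hzw
    have : (c : C) • ((z : L) : K) = (c : C) • ((w : L) : K) := by
      rw [← hg z.1 z.2, ← hg w.1 w.2]
      exact congrArg _ hzw
    rw [Algebra.smul_def, Algebra.smul_def] at this
    exact Subtype.ext (Subtype.ext (mul_left_cancel₀
      (by simpa [map_eq_zero_iff _ hinj] using nonZeroDivisors.ne_zero c.2) this))
  let J : Ideal C := LinearMap.range gl
  have hJ : Module.length C (C ⧸ J) ≠ ⊤ ∨ N = ⊥ := by
    by_cases hbot : J = ⊥
    · right
      rw [Submodule.eq_bot_iff]
      intro z hz
      have : gl ⟨z, hz⟩ ∈ J := ⟨_, rfl⟩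
      rw [hbot, Submodule.mem_bot] at this
      exact congrArg Subtype.val (hglinj (this.trans (map_zero gl).symm))
    · left
      obtain ⟨j, hjJ, hj0⟩ := Submodule.exists_mem_ne_zero_of_ne_bot hbot
      have hle : Ideal.span {j} ≤ J := (Ideal.span_singleton_le_iff_mem _).mpr hjJ
      exact ne_top_of_le_ne_top (Ring.ord_ne_top (R := C) (mem_nonZeroDivisors_of_ne_zero hj0))
        (Module.length_le_of_surjective (Submodule.factor hle) (Submodule.factor_surjective hle))
  rcases hJ with hJ | rfl
  swap
  · rw [Submodule.map_bot, Module.length_eq_zero]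
    exact zero_le
  let e : N ≃ₗ[C] J := LinearEquiv.ofInjective gl hglinj
  let π := (Ideal.span ({a} : Set C) • (⊤ : Submodule C L)).mkQ
  let φ : J →ₗ[C] ↥(N.map π) := (π.submoduleMap N).comp e.symm.toLinearMap
  have hφ : Function.Surjective φ := (LinearMap.submoduleMap_surjective π N).comp e.symm.surjective
  have hker : Submodule.comap J.subtype (a • J) ≤ LinearMap.ker φ := by
    intro z hz
    obtain ⟨j, hj, hjz⟩ := Submodule.mem_smul_pointwise_iff_exists _ _ _ |>.mp hz
    have : z = a • (⟨j, hj⟩ : J) := Subtype.ext hjz.symm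
    rw [LinearMap.mem_ker, this, map_smul]
    apply Subtype.ext
    show a • π ((e.symm ⟨j, hj⟩ : N) : L) = 0
    rw [← map_smul]
    exact (Submodule.Quotient.mk_eq_zero _).mpr
      (Submodule.smul_mem_smul (Ideal.mem_span_singleton_self a) Submodule.mem_top)
  have hs' : Function.Surjective (Submodule.liftQ _ φ hker) := fun z => by
    obtain ⟨w, hw⟩ := hφ z
    exact ⟨Submodule.Quotient.mk w, hw⟩
  exact (Module.length_le_of_surjective _ hs').trans (DvrDom.length_quot_smul_le ha J hJ)

theorem length_quot_le (L : Submodule C K) {a : C} (ha : a ≠ 0) :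
    Module.length C (L ⧸ (Ideal.span ({a} : Set C) • (⊤ : Submodule C L))) ≤ Ring.ord C a := by
  classical
  obtain ⟨e, he⟩ := ENat.ne_top_iff_exists.mp (Ring.ord_ne_top (R := C) (mem_nonZeroDivisors_of_ne_zero ha))
  have hfg : ∀ N : Submodule C (L ⧸ (Ideal.span ({a} : Set C) • (⊤ : Submodule C L))), N.FG →
      Module.length C N ≤ e := by
    rintro N ⟨t, rfl⟩
    choose l hl using fun q : L ⧸ (Ideal.span ({a} : Set C) • (⊤ : Submodule C L)) => Submodule.mkQ_surjective _ q
    have key : (Submodule.span C (l '' t)).map (Ideal.span ({a} : Set C) • (⊤ : Submodule C L)).mkQ = Submodule.span C t := by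
      rw [Submodule.map_span, Set.image_image]
      simp [hl]
    rw [← key, he]
    exact length_map_mkQ_le L ha _ (Submodule.fg_span (t.finite_toSet.image l))
  haveI := DvrDom.finite_of_forall_fg_length_le e hfg
  rw [← he, ← Module.length_top]
  exact hfg ⊤ Module.Finite.fg_top

theorem length_quot_pi_le {a : C} (ha : a ≠ 0) : ∀ (r : ℕ) (M : Submodule C (Fin r → K)),
    Module.length C (M ⧸ (Ideal.span ({a} : Set C) • (⊤ : Submodule C M))) ≤ r * Ring.ord C a
  | 0, M => by
    haveI : Subsingleton M := ⟨fun x y => Subtype.ext (funext fun i => i.elim0)⟩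
    haveI : Subsingleton (M ⧸ (Ideal.span ({a} : Set C) • (⊤ : Submodule C M))) :=
      (Submodule.mkQ_surjective _).subsingleton
    rw [Module.length_eq_zero]
    exact zero_le
  | r + 1, M => by
    let emb : (Fin r → K) →ₗ[C] (Fin (r + 1) → K) :=
      { toFun := fun v => Fin.snoc v 0
        map_add' := fun v w => funext fun i => by refine Fin.lastCases ?_ (fun j => ?_) i <;> simp
        map_smul' := fun c v => funext fun i => by refine Fin.lastCases ?_ (fun j => ?_) i <;> simp }
    let M₀ := M.comap emb
    let pr : (Fin (r + 1) → K) →ₗ[C] K := LinearMap.proj (Fin.last r)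
    let L := M.map pr
    let I := Ideal.span ({a} : Set C)
    let p : M →ₗ[C] L := pr.submoduleMap M
    let φ : M₀ →ₗ[C] M := (emb.comp M₀.subtype).codRestrict M fun v => v.2
    have hsm : ∀ {A B : Type v} [AddCommGroup A] [Module C A] [AddCommGroup B] [Module C B] (f : A →ₗ[C] B),
        I • (⊤ : Submodule C A) ≤ (I • ⊤ : Submodule C B).comap f := fun f => by
      rw [← Submodule.map_le_iff_le_comap, Submodule.map_smul'']
      exact Submodule.smul_mono le_rfl le_top
    let g := Submodule.mapQ _ _ p (hsm p)
    let f := Submodule.mapQ _ _ φ (hsm φ)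
    have hp : Function.Surjective p := LinearMap.submoduleMap_surjective pr M
    have hg : Function.Surjective g := by
      intro z
      obtain ⟨z, rfl⟩ := Submodule.mkQ_surjective _ z
      obtain ⟨m, rfl⟩ := hp z
      exact ⟨Submodule.Quotient.mk m, rfl⟩
    have hex : Function.Exact (LinearMap.range f).subtype g := by
      rw [LinearMap.exact_iff, Submodule.range_subtype]
      refine le_antisymm (fun z hz => ?_) ?_
      · obtain ⟨m, rfl⟩ := Submodule.mkQ_surjective _ z
        have hm : p m ∈ I • (⊤ : Submodule C L) := (Submodule.Quotient.mk_eq_zero _).mp hz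
        rw [Submodule.ideal_span_singleton_smul, Submodule.mem_smul_pointwise_iff_exists] at hm
        obtain ⟨l, -, hl⟩ := hm
        obtain ⟨m', rfl⟩ := hp l
        have hlast : ((m - a • m' : M) : Fin (r + 1) → K) (Fin.last r) = 0 := by
          have := congrArg Subtype.val hl
          show (m : Fin (r + 1) → K) (Fin.last r) - a • (m' : Fin (r + 1) → K) (Fin.last r) = 0
          rw [sub_eq_zero]
          exact this.symm
        have hmem : (fun j => ((m - a • m' : M) : Fin (r + 1) → K) j.castSucc) ∈ M₀ := by
          show Fin.snoc (fun j => ((m - a • m' : M) : Fin (r + 1) → K) j.castSucc) 0 ∈ M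
          convert (m - a • m' : M).2 using 1
          funext i
          refine Fin.lastCases ?_ (fun j => ?_) i
          · rw [Fin.snoc_last, hlast]
          · rw [Fin.snoc_castSucc]
        refine ⟨Submodule.Quotient.mk ⟨_, hmem⟩, ?_⟩
        show Submodule.Quotient.mk (φ ⟨_, hmem⟩) = Submodule.Quotient.mk m
        have he : φ ⟨_, hmem⟩ = m - a • m' := by
          refine Subtype.ext (funext fun i => ?_)
          refine Fin.lastCases ?_ (fun j => ?_) i
          · exact (Fin.snoc_last (α := fun _ => K) 0 _).trans hlast.symm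
          · exact Fin.snoc_castSucc (α := fun _ => K) 0 _ j
        rw [he, Submodule.Quotient.eq, sub_sub_cancel_left, neg_mem_iff]
        exact Submodule.smul_mem_smul (Ideal.mem_span_singleton_self a) Submodule.mem_top
      · rintro _ ⟨z, rfl⟩
        obtain ⟨v, rfl⟩ := Submodule.mkQ_surjective _ z
        show Submodule.Quotient.mk (p (φ v)) = 0
        have : p (φ v) = 0 := Subtype.ext (Fin.snoc_last (α := fun _ => K) 0 _)
        rw [this, Submodule.Quotient.mk_zero]
    rw [Module.length_eq_add_of_exact _ _ (Submodule.injective_subtype _) hg hex, Nat.cast_add, Nat.cast_one, add_mul, one_mul]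
    exact add_le_add ((Module.length_le_of_surjective f.rangeRestrict f.surjective_rangeRestrict).trans (length_quot_pi_le ha r M₀))
      (length_quot_le L ha)

end Groth.Agent.KAModule
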